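import Mathlib
import Groth.Agent.S7923
import Groth.Agent.ArtFunLib.PS
import Groth.Agent.AdicRingLib.Maps
import Groth.Agent.CohenPresLib.FlatIso
import Groth.Agent.RegLocal.Complete
import Groth.Agent.CohenRingLib.Basic

/-!
Completions of local rings at a node.
-/

set_option autoImplicit false
set_option linter.style.haveILetI false
universe u

open IsLocalRing

noncomputable section

namespace Groth.Agent.NodeComplLib

theorem isNoetherianRing_completion (R : Type u) [CommRing R] [IsLocalRing R] [IsNoetherianRing R] :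
    IsNoetherianRing (AdicCompletion (maximalIdeal R) R) :=
  Groth.Agent.RegLocal.isNoetherianRing_adicCompletion (maximalIdeal R)
    (maximalIdeal R).fg_of_isNoetherianRing

/-- Limit of a sequence with `n`-th step in `I ^ (n+1)`. -/
theorem exists_limit {C : Type u} [CommRing C] (I : Ideal C) [IsPrecomplete I C] (f : ℕ → C)
    (hf : ∀ n, f (n + 1) - f n ∈ I ^ (n + 1)) : ∃ L, ∀ n, L - f n ∈ I ^ (n + 1) := by
  have hc : ∀ {m n : ℕ}, m ≤ n → f n - f m ∈ I ^ (m + 1) := by
    intro m n hmn
    induction n, hmn using Nat.le_induction with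
    | base => simp
    | succ n hmn ih =>
      rw [← sub_add_sub_cancel (f (n + 1)) (f n) (f m)]
      exact add_mem (Ideal.pow_le_pow_right (by omega) (hf n)) ih
  obtain ⟨L, hL⟩ := IsPrecomplete.prec (I := I) (M := C) inferInstance (f := f) fun {m n} hmn => by
    rw [SModEq.sub_mem, smul_eq_mul, Ideal.mul_top]
    exact Ideal.pow_le_pow_right (Nat.le_succ m) (by simpa [neg_sub] using neg_mem (hc hmn))
  refine ⟨L, fun n => ?_⟩
  have h := hL (n + 1)
  rw [SModEq.sub_mem, smul_eq_mul, Ideal.mul_top] at h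
  rw [← sub_add_sub_cancel L (f (n + 1)) (f n)]
  exact add_mem (by simpa [neg_sub] using neg_mem h) (hf n)

theorem eq_of_forall_sub_mem {C : Type u} [CommRing C] (I : Ideal C) [IsHausdorff I C] (x y : C)
    (h : ∀ n : ℕ, x - y ∈ I ^ (n + 1)) : x = y := by
  refine (IsHausdorff.eq_iff_smodEq (I := I)).2 fun n => ?_
  rw [SModEq.sub_mem, smul_eq_mul, Ideal.mul_top]
  exact Ideal.pow_le_pow_right (Nat.le_succ n) (h n)

/-- Surjective endomorphisms of Noetherian rings are injective. -/
theorem injective_of_surjective {N : Type u} [CommRing N] [IsNoetherianRing N] (g : N →+* N)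
    (hg : Function.Surjective g) : Function.Injective g := by
  have hsurj : ∀ n, Function.Surjective (g^[n]) := fun n => hg.iterate n
  have h0 : ∀ n : ℕ, g^[n] 0 = 0 := fun n => iterate_map_zero g n
  let K : ℕ →o Ideal N :=
    { toFun := fun n =>
        { carrier := {x | g^[n] x = 0}
          zero_mem' := h0 n
          add_mem' := fun {a b} ha hb => by
            change g^[n] (a + b) = 0
            rw [iterate_map_add, ha, hb, add_zero]
          smul_mem' := fun c x hx => by
            change g^[n] (c * x) = 0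
            rw [iterate_map_mul, hx, mul_zero] }
      monotone' := monotone_nat_of_le_succ fun n x (hx : g^[n] x = 0) => by
        change g^[n + 1] x = 0
        rw [Function.iterate_succ_apply', hx, map_zero] }
  obtain ⟨n, hn⟩ := monotone_stabilizes_iff_noetherian.mpr inferInstance K
  rw [injective_iff_map_eq_zero]
  intro x hx
  obtain ⟨y, rfl⟩ := hsurj n x
  have : y ∈ K n := hn (n + 1) (Nat.le_succ n) ▸ (show g^[n + 1] y = 0 by
    rw [Function.iterate_succ_apply', hx])
  exact this

variable (A B : Type u) [CommRing A] [IsLocalRing A] [IsNoetherianRing A]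
  [CommRing B] [IsLocalRing B] [IsNoetherianRing B] [Algebra A B] [IsLocalHom (algebraMap A B)]

local notation "Ah" => AdicCompletion (maximalIdeal A) A
local notation "Bh" => AdicCompletion (maximalIdeal B) B

theorem map_maximalIdeal_le_compl :
    (maximalIdeal A).map (algebraMap A Bh) ≤ maximalIdeal Bh := by
  rw [IsScalarTower.algebraMap_eq A B Bh, ← Ideal.map_map, AdicCompletion.maximalIdeal_eq_map]
  exact Ideal.map_mono (IsLocalRing.map_maximalIdeal_le _)

theorem isAdicComplete_map :
    IsAdicComplete ((maximalIdeal A).map (algebraMap A Bh)) Bh := by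
  haveI := isNoetherianRing_completion B
  exact AdicLemmas.isAdicComplete_of_le_of_fg (map_maximalIdeal_le_compl A B)
    (Ideal.fg_of_isNoetherianRing _) Bh

/-- The node power series map, S7924. -/
theorem exists_surjective
    (hres : Function.Bijective (IsLocalRing.ResidueField.map (algebraMap A B)))
    (u v : B) (hu : u ∈ maximalIdeal B) (hv : v ∈ maximalIdeal B)
    (huv : u * v ∈ (maximalIdeal A).map (algebraMap A B))
    (hgen : maximalIdeal B = Ideal.span {u, v} ⊔ (maximalIdeal A).map (algebraMap A B)) :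
    ∃ (α : Ah) (_ : α ∈ (maximalIdeal A).map (algebraMap A Ah))
      (ψ : (MvPowerSeries (Fin 2) Ah ⧸ Ideal.span
          {(MvPowerSeries.X 0 * MvPowerSeries.X 1 - MvPowerSeries.C α :
              MvPowerSeries (Fin 2) Ah)}) →ₐ[A] Bh),
      Function.Surjective ψ ∧
        ψ (Ideal.Quotient.mk _ (MvPowerSeries.X 0)) - algebraMap B Bh u ∈
          (maximalIdeal A).map (algebraMap A Bh) ∧
        ψ (Ideal.Quotient.mk _ (MvPowerSeries.X 1)) - algebraMap B Bh v ∈
          (maximalIdeal A).map (algebraMap A Bh) := by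
  haveI := isNoetherianRing_completion A
  haveI := isNoetherianRing_completion B
  haveI := isAdicComplete_map A B
  set mA := maximalIdeal A with hmA
  set I := mA.map (algebraMap A Bh) with hI
  have hIle : I ≤ maximalIdeal Bh := map_maximalIdeal_le_compl A B
  have hIB : ∀ k : ℕ, ∀ x ∈ (mA ^ k).map (algebraMap A B), algebraMap B Bh x ∈ I ^ k := fun k x hx => by
    have h := Ideal.mem_map_of_mem (algebraMap B Bh) hx
    rwa [Ideal.map_map, ← IsScalarTower.algebraMap_eq, Ideal.map_pow] at h
  obtain ⟨us, vs, ε, hu0, hv0, hseq⟩ := Groth.Agent.S7923.result A B hres u v hu hv huv hgen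
  choose hum hvm hεm hus hvs hεs huve using hseq
  obtain ⟨U, hU⟩ := exists_limit I (fun n => algebraMap B Bh (us n)) fun n => by
    rw [← map_sub]; exact hIB _ _ (hus n)
  obtain ⟨V, hV⟩ := exists_limit I (fun n => algebraMap B Bh (vs n)) fun n => by
    rw [← map_sub]; exact hIB _ _ (hvs n)
  have hmAh : maximalIdeal Ah = mA.map (algebraMap A Ah) := AdicCompletion.maximalIdeal_eq_map
  haveI : IsPrecomplete (mA.map (algebraMap A Ah)) Ah := by rw [← hmAh]; infer_instance
  obtain ⟨α, hα⟩ := exists_limit (mA.map (algebraMap A Ah)) (fun n => algebraMap A Ah (ε n))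
    fun n => by
      rw [← map_sub, ← Ideal.map_pow]; exact Ideal.mem_map_of_mem _ (hεs n)
  have hαm : α ∈ mA.map (algebraMap A Ah) := by
    rw [← sub_add_cancel α (algebraMap A Ah (ε 0))]
    exact add_mem (by simpa using hα 0) (Ideal.mem_map_of_mem _ (hεm 0))
  obtain ⟨gA, hgA⟩ := Groth.Agent.AdicRingLib.exists_algHom_completion (R := A) mA (maximalIdeal Bh)
    (Algebra.ofId A Bh) (map_maximalIdeal_le_compl A B)
  letI : Algebra Ah Bh := gA.toRingHom.toAlgebra
  haveI : IsScalarTower A Ah Bh := .of_algebraMap_eq fun a => (gA.commutes a).symm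
  have hmap : (mA.map (algebraMap A Ah)).map (algebraMap Ah Bh) = I := by
    rw [Ideal.map_map, ← IsScalarTower.algebraMap_eq]
  have hUV : U * V = algebraMap Ah Bh α := by
    refine eq_of_forall_sub_mem I _ _ fun n => ?_
    have h1 := hIB _ _ (huve n)
    rw [map_sub, map_mul, ← IsScalarTower.algebraMap_apply] at h1
    have h2 : algebraMap Ah Bh α - algebraMap A Bh (ε n) ∈ I ^ (n + 1) := by
      have := Ideal.mem_map_of_mem (algebraMap Ah Bh) (hα n)
      rwa [map_sub, ← IsScalarTower.algebraMap_apply, Ideal.map_pow, hmap] at this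
    have e : U * V - algebraMap Ah Bh α = (U - algebraMap B Bh (us n)) * V +
        algebraMap B Bh (us n) * (V - algebraMap B Bh (vs n)) +
        (algebraMap B Bh (us n) * algebraMap B Bh (vs n) - algebraMap A Bh (ε n)) -
        (algebraMap Ah Bh α - algebraMap A Bh (ε n)) := by ring
    rw [e]
    exact sub_mem (add_mem (add_mem (Ideal.mul_mem_right _ _ (hU n)) (Ideal.mul_mem_left _ _ (hV n))) h1) h2
  have hUu : U - algebraMap B Bh u ∈ I := by simpa [hu0] using hU 0
  have hVv : V - algebraMap B Bh v ∈ I := by simpa [hv0] using hV 0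
  have hum' : algebraMap B Bh u ∈ maximalIdeal Bh := by
    rw [AdicCompletion.maximalIdeal_eq_map]; exact Ideal.mem_map_of_mem _ hu
  have hvm' : algebraMap B Bh v ∈ maximalIdeal Bh := by
    rw [AdicCompletion.maximalIdeal_eq_map]; exact Ideal.mem_map_of_mem _ hv
  obtain ⟨ψ₀, hψ₀⟩ := ArtFunLib.ps_exists_lift (Λ := Ah) (maximalIdeal Bh) ![U, V] (by
    rw [Fin.forall_fin_two]
    refine ⟨?_, ?_⟩
    · simpa using add_mem (hIle hUu) hum'
    · simpa using add_mem (hIle hVv) hvm')
  let P := MvPowerSeries (Fin 2) Ah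
  have hψC : ∀ a : Ah, ψ₀ (MvPowerSeries.C a) = algebraMap Ah Bh a := fun a => ψ₀.commutes a
  have hψX0 : ψ₀ (MvPowerSeries.X 0) = U := hψ₀ 0
  have hψX1 : ψ₀ (MvPowerSeries.X 1) = V := hψ₀ 1
  let J : Ideal P := Ideal.span {MvPowerSeries.X 0 * MvPowerSeries.X 1 - MvPowerSeries.C α}
  have hJ : ∀ x ∈ J, ψ₀ x = 0 := by
    intro x hx
    obtain ⟨y, rfl⟩ := Ideal.mem_span_singleton.mp hx
    rw [map_mul, map_sub, map_mul, hψC, hψX0, hψX1, hUV, sub_self, zero_mul]
  refine ⟨α, hαm, (Ideal.Quotient.liftₐ J ψ₀ hJ).restrictScalars A, ?_, ?_, ?_⟩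
  · change Function.Surjective (Ideal.Quotient.liftₐ J ψ₀ hJ)
    refine fun y => ?_
    suffices h : Function.Surjective ψ₀ by
      obtain ⟨x, hx⟩ := h y
      exact ⟨Ideal.Quotient.mk J x, hx⟩
    obtain ⟨-, -, -, hPc⟩ := ArtFunLib.exists_psCRing (k := ResidueField Ah) (Λ := Ah)
      IsLocalRing.residue_surjective 2
    haveI : IsAdicComplete (maximalIdeal P) P := hPc
    let M : Ideal P := (maximalIdeal Ah).map (MvPowerSeries.C (σ := Fin 2) (R := Ah)) ⊔
      Ideal.span {MvPowerSeries.X 0, MvPowerSeries.X 1}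
    have hM : M ≤ maximalIdeal P := by
      refine le_trans ?_ (IsLocalRing.le_maximalIdeal (J := (maximalIdeal Ah).comap
        (MvPowerSeries.constantCoeff (σ := Fin 2) (R := Ah))) (Ideal.comap_ne_top _ (maximalIdeal.isMaximal _).ne_top))
      refine sup_le (Ideal.map_le_iff_le_comap.mpr fun a ha => ?_) (Ideal.span_le.mpr ?_)
      · rw [Ideal.mem_comap, Ideal.mem_comap, MvPowerSeries.constantCoeff_C]; exact ha
      · rintro _ (rfl | rfl) <;>
          · rw [SetLike.mem_coe, Ideal.mem_comap, MvPowerSeries.constantCoeff_X]; exact zero_mem _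
    haveI : IsAdicComplete M P :=
      AdicLemmas.isAdicComplete_of_le_of_fg hM (Ideal.fg_of_isNoetherianRing _) P
    have hMmap : M.map ψ₀.toRingHom = maximalIdeal Bh := by
      refine le_antisymm ?_ ?_
      · refine Ideal.map_le_iff_le_comap.mpr (sup_le (Ideal.map_le_iff_le_comap.mpr fun a ha => ?_) (Ideal.span_le.mpr ?_))
        · rw [Ideal.mem_comap, Ideal.mem_comap]
          change ψ₀ (MvPowerSeries.C a) ∈ _
          rw [hψC, hmAh] at *
          exact hIle (hmap ▸ Ideal.mem_map_of_mem _ ha)
        · rintro _ (rfl | rfl)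
          · change ψ₀ _ ∈ maximalIdeal Bh
            rw [hψX0]; simpa using add_mem (hIle hUu) hum'
          · change ψ₀ _ ∈ maximalIdeal Bh
            rw [hψX1]; simpa using add_mem (hIle hVv) hvm'
      · have hIM : I ≤ M.map ψ₀.toRingHom := by
          rw [← hmap, Ideal.map_le_iff_le_comap]
          intro a ha
          rw [Ideal.mem_comap, ← hψC]
          exact Ideal.mem_map_of_mem ψ₀.toRingHom (Ideal.mem_sup_left (Ideal.mem_map_of_mem _ (hmAh ▸ ha)))
        rw [AdicCompletion.maximalIdeal_eq_map]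
        refine (le_of_eq (congrArg (Ideal.map (algebraMap B Bh)) hgen)).trans ?_
        rw [Ideal.map_sup, Ideal.map_map,
          ← IsScalarTower.algebraMap_eq, Ideal.map_span]
        refine sup_le (Ideal.span_le.mpr ?_) hIM
        rintro _ ⟨z, (rfl | rfl), rfl⟩
        · rw [← sub_sub_cancel U (algebraMap B Bh z), ← hψX0]
          exact sub_mem (Ideal.mem_map_of_mem ψ₀.toRingHom (Ideal.mem_sup_right (Ideal.subset_span (by simp))))
            (hψX0 ▸ hIM hUu)
        · rw [← sub_sub_cancel V (algebraMap B Bh z), ← hψX1]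
          exact sub_mem (Ideal.mem_map_of_mem ψ₀.toRingHom (Ideal.mem_sup_right (Ideal.subset_span (by simp))))
            (hψX1 ▸ hIM hVv)
    haveI : IsHausdorff (M.map ψ₀.toRingHom) Bh := by rw [hMmap]; infer_instance
    refine surjective_of_mk_map_comp_surjective (I := M) (f := ψ₀.toRingHom) fun z => ?_
    obtain ⟨y, rfl⟩ := Ideal.Quotient.mk_surjective z
    obtain ⟨b, hb⟩ := (AdicCompletion.residueField_map_bijective B).2 (residue Bh y)
    obtain ⟨a, rfl⟩ := hres.2 b
    obtain ⟨a, rfl⟩ := IsLocalRing.residue_surjective a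
    rw [IsLocalRing.ResidueField.map_residue, IsLocalRing.ResidueField.map_residue] at hb
    refine ⟨MvPowerSeries.C (algebraMap A Ah a), Ideal.Quotient.eq.mpr ?_⟩
    rw [hMmap]
    change ψ₀ _ - y ∈ _
    rw [hψC, ← IsScalarTower.algebraMap_apply, ← residue_eq_zero_iff, map_sub,
      IsScalarTower.algebraMap_apply A B Bh, hb, sub_self]
  · change ψ₀ (MvPowerSeries.X 0) - _ ∈ I
    rw [hψX0]; exact hUu
  · change ψ₀ (MvPowerSeries.X 1) - _ ∈ I
    rw [hψX1]; exact hVv

end Groth.Agent.NodeComplLib
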